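import Cfsg.Agent.H999.IF.EngB
import Cfsg.Agent.H934.Burn

/-!
# S5719, exceptional groups, `q` even: abstract lemmas (helper255)

* `Fix A` : the consequence of `IF A Γ` used (invariant under conjugation, `Fix.conj`);
* `iso` : isotropic subgroups of a group `Q` with `[x, Q] = Z` for `x ∈ Q ∖ W`, `W` central, are small;
* `index_centralizer_le` : classes meeting a subgroup with a large normaliser;
* `s1`, `s2`, `s13`, `s3` : the numerical steps.
-/

set_option autoImplicit false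
set_option linter.unusedSectionVars false

namespace Cfsg.Agent.H255.IFK

open MulAction Subgroup Cfsg.Agent.H209.Fxy Cfsg.Agent.H934.Burn

open scoped Pointwise

section Fix

variable {T : Type*} [Group T]

/-- The consequence of `IF A Γ` used. -/
def Fix (A : Subgroup T) : Prop :=
  ∀ t ∈ A, orderOf t = 2 → ∃ f : ℕ, (∀ B : Subgroup T, B ≤ centralizer ({t} : Set T) → A.relIndex B ≤ f) ∧
    f ^ 5 * {u : T | u ∈ A ∧ IsConj t u}.ncard < (centralizer ({t} : Set T)).index

theorem fix_of_IF [Finite T] [IsSimpleGroup T] {A : Subgroup T} {Γ : Subgroup (MulAut T)} (h : IF A Γ)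
    (hna : ∃ a b : T, a * b ≠ b * a) : Fix A := by
  intro t ht h2
  have hσ : MulAut.conj t ∈ Γ := (h.conj t).2 ht
  obtain ⟨ho, hc, -, -, -⟩ := H999.IFB.IF.E2' h hna ht h2
  refine ⟨fx A (MulAut.conj t), fun B hB => ?_, ?_⟩
  · refine (H999.IFB.IF.E1 h hσ ho (B := B) fun b hb => ?_).1
    have := Subgroup.mem_centralizer_singleton_iff.1 (hB hb)
    rw [MulAut.conj_apply, mul_inv_eq_iff_eq_mul]
    exact this.symm
  · rw [← hc]
    have h1 := H999.IFB.IF.fix_formula' h hσ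
    have h3 := h.small _ hσ ho
    have h4 : {u : T | u ∈ A ∧ IsConj t u}.ncard ≤ (H999.IFB.icl (MulAut.conj t) ∩ (Γ : Set (MulAut T))).ncard := by
      refine Set.ncard_le_ncard_of_injOn (fun u => MulAut.conj u) ?_ ?_ (Set.toFinite _)
      · rintro u ⟨hu, hu'⟩
        obtain ⟨c, hc⟩ := isConj_iff.1 hu'
        refine ⟨⟨c, ?_⟩, (h.conj u).2 hu⟩
        show MulAut.conj u = _
        rw [← hc, map_mul, map_mul, map_inv]
      · intro u _ v _ huv
        have h5 : MulAut.conj (u * v⁻¹) = 1 := by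
          have : MulAut.conj u = MulAut.conj v := huv
          rw [map_mul, map_inv, this, mul_inv_cancel]
        have h6 : u * v⁻¹ = 1 := by
          apply H999.IFB.center_of hna
          intro x
          have h7 := congrArg (fun τ : MulAut T => τ x) h5
          simp only [MulAut.conj_apply, MulAut.one_apply] at h7
          rwa [mul_inv_eq_iff_eq_mul] at h7
        exact mul_inv_eq_one.1 h6
    have h5 := H999.IFB.fx_pos A (MulAut.conj t)
    set N := (H999.IFB.icl (MulAut.conj t) ∩ (Γ : Set (MulAut T))).ncard with hN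
    have h6 : 0 < N := (Set.ncard_pos (Set.toFinite _)).2 ⟨MulAut.conj t, ⟨1, by simp⟩, hσ⟩
    have h7 : fx A (MulAut.conj t) * (fx A (MulAut.conj t) ^ 5 * N) <
        fx A (MulAut.conj t) * (H999.IFB.icl (MulAut.conj t)).ncard := by
      rw [h1]
      calc fx A (MulAut.conj t) * (fx A (MulAut.conj t) ^ 5 * N) = fx A (MulAut.conj t) ^ 6 * N := by ring
        _ < A.index * N := Nat.mul_lt_mul_of_pos_right h3 h6
    exact lt_of_le_of_lt (Nat.mul_le_mul_left _ h4) (lt_of_mul_lt_mul_left h7 (Nat.zero_le _))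

theorem mem_conj {A : Subgroup T} {g x : T} : x ∈ MulAut.conj g • A ↔ g⁻¹ * x * g ∈ A := by
  rw [Subgroup.mem_pointwise_smul_iff_inv_smul_mem, ← map_inv]
  simp [MulAut.smul_def, MulAut.conj_apply]

theorem conj_mem_conj {A : Subgroup T} {g x : T} (hx : x ∈ A) : g * x * g⁻¹ ∈ MulAut.conj g • A := by
  rw [mem_conj]
  have : g⁻¹ * (g * x * g⁻¹) * g = x := by group
  rwa [this]

theorem index_centralizer_conj {t z : T} (h : IsConj t z) :
    (centralizer ({t} : Set T)).index = (centralizer ({z} : Set T)).index := by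
  obtain ⟨c, hc⟩ := isConj_iff.1 h
  have h1 : centralizer ({z} : Set T) = MulAut.conj c • centralizer ({t} : Set T) := by
    ext x
    rw [mem_conj, Subgroup.mem_centralizer_singleton_iff, Subgroup.mem_centralizer_singleton_iff, ← hc]
    constructor
    · intro h
      calc c⁻¹ * x * c * t = c⁻¹ * (x * (c * t * c⁻¹)) * c := by group
        _ = c⁻¹ * ((c * t * c⁻¹) * x) * c := by rw [h]
        _ = _ := by group
    · intro h
      calc x * (c * t * c⁻¹) = c * (c⁻¹ * x * c * t) * c⁻¹ := by group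
        _ = c * (t * (c⁻¹ * x * c)) * c⁻¹ := by rw [h]
        _ = _ := by group
  rw [h1]
  have h2 := Subgroup.relIndex_pointwise_smul (MulAut.conj c) (centralizer ({t} : Set T)) ⊤
  have h3 : MulAut.conj c • (⊤ : Subgroup T) = ⊤ := by
    rw [Subgroup.eq_top_iff']
    intro x
    rw [mem_conj]
    exact mem_top _
  rw [h3, Subgroup.relIndex_top_right, Subgroup.relIndex_top_right] at h2
  exact h2.symm

theorem Fix.conj [Finite T] {A : Subgroup T} (h : Fix A) (g : T) : Fix (MulAut.conj g • A) := by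
  intro t ht h2
  rw [mem_conj] at ht
  have hcj : IsConj t (g⁻¹ * t * g) := isConj_iff.2 ⟨g⁻¹, by rw [inv_inv]⟩
  have ho : orderOf (g⁻¹ * t * g) = 2 := by
    rw [← h2]
    have := orderOf_injective (MulAut.conj g⁻¹).toMonoidHom (MulAut.conj g⁻¹).injective t
    rw [← this]
    congr 1
    simp [MulAut.conj_apply]
  obtain ⟨f, h3, h4⟩ := h _ ht ho
  refine ⟨f, fun B hB => ?_, ?_⟩
  · have h5 := h3 (MulAut.conj g⁻¹ • B) (by
      intro x hx
      rw [mem_conj, inv_inv] at hx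
      have h6 := Subgroup.mem_centralizer_singleton_iff.1 (hB hx)
      rw [Subgroup.mem_centralizer_singleton_iff]
      calc x * (g⁻¹ * t * g) = g⁻¹ * ((g * x * g⁻¹) * t) * g := by group
        _ = g⁻¹ * (t * (g * x * g⁻¹)) * g := by rw [h6]
        _ = _ := by group)
    have h6 : A.relIndex (MulAut.conj g⁻¹ • B) = (MulAut.conj g • A).relIndex B := by
      have h7 := Subgroup.relIndex_pointwise_smul (MulAut.conj g) A (MulAut.conj g⁻¹ • B)
      rw [smul_smul, ← map_mul, mul_inv_cancel, map_one, one_smul] at h7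
      exact h7.symm
    rw [← h6]
    exact h5
  · rw [index_centralizer_conj hcj]
    refine lt_of_le_of_lt (Nat.mul_le_mul_left _ ?_) h4
    refine Set.ncard_le_ncard_of_injOn (fun u => g⁻¹ * u * g) ?_ ?_ (Set.toFinite _)
    · rintro u ⟨hu, hu'⟩
      rw [mem_conj] at hu
      exact ⟨hu, hcj.symm.trans (hu'.trans (isConj_iff.2 ⟨g⁻¹, by rw [inv_inv]⟩))⟩
    · intro u _ v _ huv
      have : g⁻¹ * u * g = g⁻¹ * v * g := huv
      exact mul_left_cancel (mul_right_cancel this)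

end Fix

section Iso

variable {G : Type*} [Group G]

theorem card_mul_rel {H K : Subgroup G} (h : H ≤ K) : Nat.card H * H.relIndex K = Nat.card K := by
  unfold Subgroup.relIndex
  rw [← Nat.card_congr (Subgroup.subgroupOfEquivOfLe h).toEquiv, Subgroup.card_mul_index]

theorem card_inf_mul_rel (A B : Subgroup G) : Nat.card (A ⊓ B : Subgroup G) * A.relIndex B = Nat.card B := by
  rw [← Subgroup.inf_relIndex_right, card_mul_rel inf_le_right]

/-- `Q` with `[Q, Q] ≤ Z ≤ W ≤ Z(Q)` and `[x, Q] = Z` for `x ∈ Q ∖ W`. -/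
structure Sp (Z W Q : Subgroup G) : Prop where
  le : Z ≤ W
  le' : W ≤ Q
  central : ∀ w ∈ W, ∀ x ∈ Q, x * w = w * x
  comm_mem : ∀ x ∈ Q, ∀ y ∈ Q, x * y * x⁻¹ * y⁻¹ ∈ Z
  special : ∀ x ∈ Q, x ∉ W → ∀ z ∈ Z, ∃ y ∈ Q, x * y * x⁻¹ * y⁻¹ = z

variable {Z W Q : Subgroup G}

/-- A character of a finite commutative group trivial on a proper subgroup. -/
theorem exists_char {Z : Type*} [Group Z] [Finite Z] (hc : ∀ a b : Z, a * b = b * a) (R : Subgroup Z) (hR : R ≠ ⊤) :
    ∃ lam : Z →* ℂ, (∀ r ∈ R, lam r = 1) ∧ ∃ z, lam z ≠ 1 := by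
  let _ : CommGroup Z := { (inferInstance : Group Z) with mul_comm := hc }
  have hn : R.Normal := inferInstance
  obtain ⟨t, ht⟩ : ∃ t, t ∉ R := by
    by_contra hcon
    push Not at hcon
    exact hR ((Subgroup.eq_top_iff' R).2 hcon)
  have ht1 : (QuotientGroup.mk t : Z ⧸ R) ≠ 1 := fun h => ht ((QuotientGroup.eq_one_iff t).1 h)
  have hexp : Monoid.exponent (Z ⧸ R) ≠ 0 := Monoid.exponent_ne_zero_of_finite
  have : NeZero (Monoid.exponent (Z ⧸ R)) := ⟨hexp⟩
  obtain ⟨φ, hφ⟩ := CommGroup.exists_apply_ne_one_of_hasEnoughRootsOfUnity (Z ⧸ R) ℂ ht1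
  refine ⟨((Units.coeHom ℂ).comp φ).comp (QuotientGroup.mk' R), ?_, t, fun h0 => hφ (Units.ext h0)⟩
  intro r hr
  show ((φ (QuotientGroup.mk r) : ℂˣ) : ℂ) = 1
  rw [(QuotientGroup.eq_one_iff r).2 hr, map_one, Units.val_one]

/-- **Isotropic subgroups are small.** -/
theorem iso [Finite G] (h : Sp Z W Q) {R : Subgroup G} (hR : R ≤ Q) (hRZ : ¬ Z ≤ R) :
    Nat.card R ^ 2 * Nat.card W ≤ Nat.card Q * Nat.card (R ⊓ W : Subgroup G) ^ 2 := by
  classical
  have := Fintype.ofFinite Q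
  have := Fintype.ofFinite G
  have hZQ : Z ≤ Q := h.le.trans h.le'
  have hzc : ∀ z ∈ Z, ∀ x ∈ Q, x * z = z * x := fun z hz x hx => h.central z (h.le hz) x hx
  obtain ⟨lam, hl1, z0, hz0⟩ := exists_char (Z := Z)
    (fun a b => Subtype.ext (hzc b b.2 a (hZQ a.2))) (R.subgroupOf Z) (by
      intro htop
      apply hRZ
      intro z hz
      have : (⟨z, hz⟩ : Z) ∈ R.subgroupOf Z := by rw [htop]; exact mem_top _
      exact this)
  -- the pairing
  set b : Q → Q → ℂ := fun x y => lam ⟨(x : G) * y * (x : G)⁻¹ * (y : G)⁻¹, h.comm_mem x x.2 y y.2⟩ with hb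
  have bml : ∀ x x' y : Q, b (x * x') y = b x y * b x' y := by
    intro x x' y
    rw [hb]
    show lam _ = lam _ * lam _
    rw [← map_mul]
    congr 1
    apply Subtype.ext
    show (x : G) * x' * y * ((x : G) * x')⁻¹ * (y : G)⁻¹ =
      (x * y * (x : G)⁻¹ * (y : G)⁻¹) * (x' * y * (x' : G)⁻¹ * (y : G)⁻¹)
    have hm := h.comm_mem x' x'.2 y y.2
    have h1 := hzc _ hm (x : G) x.2
    have h2 := hzc _ hm ((x : G) * y * (x : G)⁻¹ * (y : G)⁻¹) (hZQ (h.comm_mem x x.2 y y.2))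
    rw [h2]
    calc (x : G) * x' * y * ((x : G) * x')⁻¹ * (y : G)⁻¹
        = ((x : G) * (x' * y * (x' : G)⁻¹ * (y : G)⁻¹)) * (y * (x : G)⁻¹ * (y : G)⁻¹) := by group
      _ = _ := by rw [h1]; group
  have bmr : ∀ x y y' : Q, b x (y * y') = b x y * b x y' := by
    intro x y y'
    rw [hb]
    show lam _ = lam _ * lam _
    rw [← map_mul]
    congr 1
    apply Subtype.ext
    have h1 := hzc _ (h.comm_mem x x.2 y' y'.2) (y : G) y.2
    show (x : G) * (y * y') * (x : G)⁻¹ * ((y : G) * y')⁻¹ =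
      (x * y * (x : G)⁻¹ * (y : G)⁻¹) * (x * y' * (x : G)⁻¹ * (y' : G)⁻¹)
    calc (x : G) * (y * y') * (x : G)⁻¹ * ((y : G) * y')⁻¹
        = ((x : G) * y * (x : G)⁻¹ * (y : G)⁻¹) * ((y : G) * (x * y' * (x : G)⁻¹ * (y' : G)⁻¹)) * (y : G)⁻¹ := by group
      _ = _ := by rw [h1]; group
  have b1 : ∀ x y : Q, (x : G) ∈ W → b x y = 1 := by
    intro x y hx
    rw [hb]
    show lam _ = 1
    rw [show (⟨(x : G) * y * (x : G)⁻¹ * (y : G)⁻¹, h.comm_mem x x.2 y y.2⟩ : Z) = 1 from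
      Subtype.ext (by
        show (x : G) * y * (x : G)⁻¹ * (y : G)⁻¹ = 1
        rw [← h.central _ hx y y.2]; group)]
    exact map_one lam
  have b2 : ∀ x y : Q, (y : G) ∈ W → b x y = 1 := by
    intro x y hy
    rw [hb]
    show lam _ = 1
    rw [show (⟨(x : G) * y * (x : G)⁻¹ * (y : G)⁻¹, h.comm_mem x x.2 y y.2⟩ : Z) = 1 from
      Subtype.ext (by
        show (x : G) * y * (x : G)⁻¹ * (y : G)⁻¹ = 1
        rw [h.central _ hy x x.2]; group)]
    exact map_one lam
  have b3 : ∀ x : Q, (x : G) ∉ W → ∃ y, b x y ≠ 1 := by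
    intro x hx
    obtain ⟨y, hy, hz⟩ := h.special x x.2 hx z0 z0.2
    refine ⟨⟨y, hy⟩, ?_⟩
    rw [hb]
    show lam _ ≠ 1
    rw [show (⟨(x : G) * y * (x : G)⁻¹ * y⁻¹, h.comm_mem x x.2 y hy⟩ : Z) = z0 from Subtype.ext hz]
    exact hz0
  let bl : Q → Q →* ℂ := fun x =>
    { toFun := b x
      map_one' := b2 x 1 (one_mem _)
      map_mul' := bmr x }
  let br : Q → Q →* ℂ := fun y =>
    { toFun := fun x => b x y
      map_one' := b1 1 y (one_mem _)
      map_mul' := fun x x' => bml x x' y }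
  set R' : Subgroup Q := R.subgroupOf Q with hR'
  set Z' : Subgroup Q := W.subgroupOf Q with hZ'
  have hcR : Nat.card R' = Nat.card R := Nat.card_congr (Subgroup.subgroupOfEquivOfLe hR).toEquiv
  have hcZ : Nat.card Z' = Nat.card W := Nat.card_congr (Subgroup.subgroupOfEquivOfLe h.le').toEquiv
  have hcRZ : Nat.card (R' ⊓ Z' : Subgroup Q) = Nat.card (R ⊓ W : Subgroup G) := by
    rw [hR', hZ']
    show Nat.card ((R ⊓ W).subgroupOf Q) = _
    exact Nat.card_congr (Subgroup.subgroupOfEquivOfLe (inf_le_left.trans hR)).toEquiv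
  have hZn : Z'.Normal := by
    constructor
    intro z hz g
    rw [hZ', Subgroup.mem_subgroupOf] at hz ⊢
    have h1 : ((g * z * g⁻¹ : Q) : G) = z := by
      show (g : G) * z * (g : G)⁻¹ = z
      rw [h.central _ hz g g.2]; group
    rw [h1]; exact hz
  have hrow : ∀ x : R', ∑ y : Q, b x y = if (x : Q) ∈ Z' then (Nat.card Q : ℂ) else 0 := by
    intro x
    have h1 := sum_hom_units (bl x)
    rw [show ∑ y : Q, b x y = ∑ y : Q, bl x y from rfl, h1]
    by_cases hx : (x : Q) ∈ Z'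
    · rw [if_pos hx, if_pos, Nat.card_eq_fintype_card]
      ext y
      exact b1 x y hx
    · rw [if_neg hx, if_neg, Nat.cast_zero]
      intro h2
      obtain ⟨y, hy⟩ := b3 x hx
      exact hy (DFunLike.congr_fun h2 y)
  have hcol : ∀ y : Q, ∑ x : R', b x y =
      if (∀ x : R', b x y = 1) then (Nat.card R' : ℂ) else 0 := by
    intro y
    have h1 := sum_hom_units ((br y).comp R'.subtype)
    rw [show ∑ x : R', b x y = ∑ x : R', ((br y).comp R'.subtype) x from rfl, h1]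
    by_cases hx : ∀ x : R', b x y = 1
    · rw [if_pos hx, if_pos, Nat.card_eq_fintype_card]
      ext x
      exact hx x
    · rw [if_neg hx, if_neg, Nat.cast_zero]
      intro h2
      exact hx fun x => DFunLike.congr_fun h2 x
  have hS1 : ∑ x : R', ∑ y : Q, b x y = (Nat.card (R' ⊓ Z' : Subgroup Q) : ℂ) * Nat.card Q := by
    rw [Finset.sum_congr rfl fun x _ => hrow x, ← Finset.sum_filter, Finset.sum_const, nsmul_eq_mul]
    congr 2
    rw [← Fintype.card_subtype, ← Nat.card_eq_fintype_card]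
    refine Nat.card_congr ⟨fun x => ⟨(x : R'), Subgroup.mem_inf.2 ⟨(x : R').2, x.2⟩⟩,
      fun x => ⟨⟨x, (Subgroup.mem_inf.1 x.2).1⟩, (Subgroup.mem_inf.1 x.2).2⟩, fun _ => rfl, fun _ => rfl⟩
  have hS2 : ∑ x : R', ∑ y : Q, b x y =
      (Nat.card {y : Q // ∀ x : R', b x y = 1} : ℂ) * Nat.card R' := by
    rw [Finset.sum_comm, Finset.sum_congr rfl fun y _ => hcol y, ← Finset.sum_filter, Finset.sum_const, nsmul_eq_mul,
      ← Fintype.card_subtype, ← Nat.card_eq_fintype_card]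
  have hS : Nat.card (R' ⊓ Z' : Subgroup Q) * Nat.card Q =
      Nat.card {y : Q // ∀ x : R', b x y = 1} * Nat.card R' := by
    have := hS1.symm.trans hS2
    exact_mod_cast this
  have hge : Nat.card (R' ⊔ Z' : Subgroup Q) ≤ Nat.card {y : Q // ∀ x : R', b x y = 1} := by
    refine Nat.card_le_card_of_injective (fun y => ⟨(y : Q), ?_⟩) fun y y' hyy => ?_
    · intro x
      obtain ⟨r, hr, z, hz, hrz⟩ := Subgroup.mem_sup_of_normal_right.1 y.2
      rw [← hrz, bmr, b2 x z hz, mul_one]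
      rw [hb]
      show lam _ = 1
      apply hl1
      rw [Subgroup.mem_subgroupOf]
      exact mul_mem (mul_mem (mul_mem x.2 hr) (inv_mem x.2)) (inv_mem hr)
    · exact Subtype.ext (congrArg (fun w : {y : Q // ∀ x : R', b x y = 1} => (w : Q)) hyy)
  have hsup : Nat.card (R' ⊔ Z' : Subgroup Q) * Nat.card (R' ⊓ Z' : Subgroup Q) = Nat.card R' * Nat.card Z' := by
    have h1 : Z'.relIndex (R' ⊔ Z') = Z'.relIndex R' := Subgroup.relIndex_sup_right _ _
    have h2 := card_mul_rel (H := Z') (K := R' ⊔ Z') le_sup_right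
    have h3 := card_mul_rel (H := Z' ⊓ R') (K := R') inf_le_right
    rw [Subgroup.inf_relIndex_right] at h3
    rw [h1] at h2
    rw [← h2, inf_comm, ← h3]
    ring
  rw [← hcR, ← hcZ, ← hcRZ]
  have h4 : Nat.card R' * Nat.card Z' * Nat.card R' ≤
      (Nat.card (R' ⊓ Z' : Subgroup Q) * Nat.card Q) * Nat.card (R' ⊓ Z' : Subgroup Q) := by
    rw [hS, ← hsup]
    calc Nat.card (R' ⊔ Z' : Subgroup Q) * Nat.card (R' ⊓ Z' : Subgroup Q) * Nat.card R'
        ≤ Nat.card {y : Q // ∀ x : R', b x y = 1} * Nat.card (R' ⊓ Z' : Subgroup Q) * Nat.card R' :=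
          Nat.mul_le_mul_right _ (Nat.mul_le_mul_right _ hge)
      _ = _ := by ring
  calc Nat.card R' ^ 2 * Nat.card Z' = Nat.card R' * Nat.card Z' * Nat.card R' := by ring
    _ ≤ _ := h4
    _ = _ := by ring

/-- Centralisers in `Q` of elements of `Q` are large. -/
theorem card_centralizer_ge [Finite G] (h : Sp Z W Q) {R : Subgroup G} (hR : R ≤ Q) {t : G} (ht : t ∈ Q) :
    Nat.card R ≤ Nat.card (R ⊓ centralizer ({t} : Set G) : Subgroup G) * Nat.card Z := by
  set C := centralizer ({t} : Set G) with hC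
  have h1 := card_inf_mul_rel C R
  rw [inf_comm, ← h1]
  refine Nat.mul_le_mul_left _ ?_
  show Nat.card (R ⧸ C.subgroupOf R) ≤ _
  let φ : (R ⧸ C.subgroupOf R) → Z := Quotient.lift
    (fun r : R => (⟨(r : G) * t * (r : G)⁻¹ * t⁻¹, h.comm_mem r (hR r.2) t ht⟩ : Z)) (by
      intro a b hab
      have h2 : a⁻¹ * b ∈ C.subgroupOf R := QuotientGroup.leftRel_apply.1 hab
      rw [Subgroup.mem_subgroupOf, hC, Subgroup.mem_centralizer_singleton_iff] at h2
      apply Subtype.ext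
      show (a : G) * t * (a : G)⁻¹ * t⁻¹ = (b : G) * t * (b : G)⁻¹ * t⁻¹
      have h3 : (b : G) = a * ((a⁻¹ * b : R) : G) := by simp
      rw [h3]
      congr 1
      calc (a : G) * t * (a : G)⁻¹ = a * (t * ((a⁻¹ * b : R) : G)) * (((a⁻¹ * b : R) : G))⁻¹ * (a : G)⁻¹ := by group
        _ = a * (((a⁻¹ * b : R) : G) * t) * (((a⁻¹ * b : R) : G))⁻¹ * (a : G)⁻¹ := by rw [h2]
        _ = _ := by group)
  refine Nat.card_le_card_of_injective φ ?_
  intro a b hab
  induction a using QuotientGroup.induction_on with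
  | H a =>
    induction b using QuotientGroup.induction_on with
    | H b =>
      have h2 : (a : G) * t * (a : G)⁻¹ * t⁻¹ = (b : G) * t * (b : G)⁻¹ * t⁻¹ := congrArg Subtype.val hab
      have h3 := mul_right_cancel h2
      rw [QuotientGroup.eq, Subgroup.mem_subgroupOf, hC, Subgroup.mem_centralizer_singleton_iff]
      show ((a : G)⁻¹ * b) * t = t * ((a : G)⁻¹ * b)
      calc ((a : G)⁻¹ * b) * t = (a : G)⁻¹ * ((b : G) * t * (b : G)⁻¹) * b := by group
        _ = (a : G)⁻¹ * ((a : G) * t * (a : G)⁻¹) * b := by rw [h3]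
        _ = _ := by group

end Iso

section Cls

variable {T : Type*} [Group T] [Finite T]

/-- A class meeting `Q`. -/
theorem index_centralizer_le {N Q : Subgroup T} (hN : ∀ n ∈ N, ∀ x ∈ Q, n * x * n⁻¹ ∈ Q) {t : T} (ht : t ∈ Q) :
    (centralizer ({t} : Set T)).index ≤ N.index * Nat.card Q := by
  set C := centralizer ({t} : Set T) with hC
  have h1 : C.index ≤ (C ⊓ N).index := Subgroup.index_antitone inf_le_left
  have h2 : (C ⊓ N).index = C.relIndex N * N.index := by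
    rw [← Subgroup.inf_relIndex_right]
    exact (Subgroup.relIndex_mul_index inf_le_right).symm
  rw [h2, mul_comm] at h1
  refine h1.trans (Nat.mul_le_mul_left _ ?_)
  show Nat.card (N ⧸ C.subgroupOf N) ≤ _
  let φ : (N ⧸ C.subgroupOf N) → Q := Quotient.lift
    (fun r : N => (⟨(r : T) * t * (r : T)⁻¹, hN r r.2 t ht⟩ : Q)) (by
      intro a b hab
      have h2 : a⁻¹ * b ∈ C.subgroupOf N := QuotientGroup.leftRel_apply.1 hab
      rw [Subgroup.mem_subgroupOf, hC, Subgroup.mem_centralizer_singleton_iff] at h2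
      apply Subtype.ext
      show (a : T) * t * (a : T)⁻¹ = (b : T) * t * (b : T)⁻¹
      have h3 : (b : T) = a * ((a⁻¹ * b : N) : T) := by simp
      rw [h3]
      calc (a : T) * t * (a : T)⁻¹ = a * (t * ((a⁻¹ * b : N) : T)) * (((a⁻¹ * b : N) : T))⁻¹ * (a : T)⁻¹ := by group
        _ = a * (((a⁻¹ * b : N) : T) * t) * (((a⁻¹ * b : N) : T))⁻¹ * (a : T)⁻¹ := by rw [h2]
        _ = _ := by group)
  refine Nat.card_le_card_of_injective φ ?_
  intro a b hab
  induction a using QuotientGroup.induction_on with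
  | H a =>
    induction b using QuotientGroup.induction_on with
    | H b =>
      have h3 : (a : T) * t * (a : T)⁻¹ = (b : T) * t * (b : T)⁻¹ := congrArg Subtype.val hab
      rw [QuotientGroup.eq, Subgroup.mem_subgroupOf, hC, Subgroup.mem_centralizer_singleton_iff]
      show ((a : T)⁻¹ * b) * t = t * ((a : T)⁻¹ * b)
      calc ((a : T)⁻¹ * b) * t = (a : T)⁻¹ * ((b : T) * t * (b : T)⁻¹) * b := by group
        _ = (a : T)⁻¹ * ((a : T) * t * (a : T)⁻¹) * b := by rw [h3]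
        _ = _ := by group

variable {Z W Q A : Subgroup T}

theorem rel_ge {B : Subgroup T} {f : ℕ} (h : A.relIndex B ≤ f) : Nat.card B ≤ Nat.card (A ⊓ B : Subgroup T) * f := by
  rw [← card_inf_mul_rel A B]
  exact Nat.mul_le_mul_left _ h

/-- **(S1)** A root involution of `A` in `Q`, `Z ≰ A`. (`q ^ m = n`) -/
theorem s1 (hA : Fix A) (hS : Sp Z Z Q) {q n : ℕ} (hZ : Nat.card Z = q) (hQ : Nat.card Q = q * n ^ 2) {t : T}
    (ht : t ∈ A) (htQ : t ∈ Q) (htZ : t ∉ Z) (ho : orderOf t = 2) (hcj : ∀ z ∈ Z, z ≠ 1 → IsConj t z)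
    (hZA : ¬ Z ≤ A) : 16 * n ^ 5 < q ^ 4 * (centralizer ({t} : Set T)).index := by
  obtain ⟨f, h1, h2⟩ := hA t ht ho
  have hq : 0 < q := by rw [← hZ]; exact Nat.card_pos
  set a := Nat.card (A ⊓ Z : Subgroup T) with ha
  have ha0 : 0 < a := Nat.card_pos
  -- `2 a ≤ q`
  have ha2 : 2 * a ≤ q := by
    have h3 := card_inf_mul_rel A Z
    have h4 : A.relIndex Z ≠ 1 := fun h => hZA (Subgroup.relIndex_eq_one.1 h)
    have h5 : A.relIndex Z ≠ 0 := by
      intro h0
      rw [h0, mul_zero, hZ] at h3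
      omega
    rw [← ha, hZ] at h3
    rw [← h3]
    have : 2 ≤ A.relIndex Z := by omega
    calc 2 * a = a * 2 := mul_comm _ _
      _ ≤ _ := Nat.mul_le_mul_left _ this
  set B := Q ⊓ centralizer ({t} : Set T) with hB
  have h3 := rel_ge (h1 B inf_le_right)
  -- `|B| ≥ n ^ 2`
  have h4 : n ^ 2 ≤ Nat.card B := by
    have h5 := card_centralizer_ge hS le_rfl htQ
    rw [hQ, hZ, mul_comm] at h5
    exact Nat.le_of_mul_le_mul_right h5 hq
  -- `|A ∩ B| ≤ n a`
  have h5 : Nat.card (A ⊓ B : Subgroup T) ≤ n * a := by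
    have hle : (A ⊓ B : Subgroup T) ≤ A ⊓ Q := le_inf inf_le_left (inf_le_right.trans inf_le_left)
    have h6 := iso hS (R := A ⊓ Q) inf_le_right (fun h => hZA (h.trans inf_le_left))
    rw [hZ, hQ] at h6
    have h7 : (A ⊓ Q ⊓ Z : Subgroup T) = A ⊓ Z := by
      rw [inf_assoc, inf_eq_right.2 hS.le']
    rw [h7, ← ha] at h6
    have h8 : Nat.card (A ⊓ Q : Subgroup T) ^ 2 ≤ (n * a) ^ 2 := by
      have h9 : Nat.card (A ⊓ Q : Subgroup T) ^ 2 * q ≤ (n * a) ^ 2 * q := by
        calc _ ≤ _ := h6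
          _ = _ := by ring
      exact Nat.le_of_mul_le_mul_right h9 hq
    exact (Subgroup.card_le_of_le hle).trans ((Nat.pow_le_pow_iff_left two_ne_zero).1 h8)
  -- `n ≤ a f`
  have h6 : n ≤ a * f := by
    rcases Nat.eq_zero_or_pos n with h0 | h0
    · omega
    · have h7 : n * n ≤ n * (a * f) := by
        calc n * n = n ^ 2 := by ring
          _ ≤ _ := h4
          _ ≤ _ := h3
          _ ≤ (n * a) * f := Nat.mul_le_mul_right _ h5
          _ = _ := by ring
      exact Nat.le_of_mul_le_mul_left h7 h0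
  -- `a ≤ |t^T ∩ A|`
  have h7 : a ≤ {u : T | u ∈ A ∧ IsConj t u}.ncard := by
    have h8 : ((A ⊓ Z : Subgroup T) : Set T) \ {1} ∪ {t} ⊆ {u : T | u ∈ A ∧ IsConj t u} := by
      rintro u (⟨⟨hu, hu'⟩, hu1⟩ | hu)
      · exact ⟨hu, hcj u hu' hu1⟩
      · rw [Set.mem_singleton_iff] at hu
        rw [hu]
        exact ⟨ht, IsConj.refl t⟩
    refine le_trans ?_ (Set.ncard_le_ncard h8 (Set.toFinite _))
    rw [Set.union_singleton, Set.ncard_insert_of_notMem (fun h => htZ h.1.2) (Set.toFinite _),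
      Set.ncard_diff_singleton_add_one (one_mem (A ⊓ Z)) (Set.toFinite _)]
    exact le_of_eq rfl
  set I := (centralizer ({t} : Set T)).index with hI
  have h8 : f ^ 5 * a < I := lt_of_le_of_lt (Nat.mul_le_mul_left _ h7) h2
  have h9 : n ^ 5 < a ^ 4 * I := by
    calc n ^ 5 ≤ (a * f) ^ 5 := Nat.pow_le_pow_left h6 5
      _ = a ^ 4 * (f ^ 5 * a) := by ring
      _ < a ^ 4 * I := Nat.mul_lt_mul_of_pos_left h8 (pow_pos ha0 4)
  have h10 : 16 * a ^ 4 ≤ q ^ 4 := by
    calc 16 * a ^ 4 = (2 * a) ^ 4 := by ring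
      _ ≤ q ^ 4 := Nat.pow_le_pow_left ha2 4
  calc 16 * n ^ 5 < 16 * (a ^ 4 * I) := Nat.mul_lt_mul_of_pos_left h9 (by norm_num)
    _ = (16 * a ^ 4) * I := by ring
    _ ≤ q ^ 4 * I := Nat.mul_le_mul_right _ h10

/-- **(S1, iii)** `A` contains `t` and a conjugate `x` of `t` whose centraliser meets `Q ≤ C(t)` trivially. -/
theorem s13 (hA : Fix A) {t x : T} (ht : t ∈ A) (ho : orderOf t = 2) (hx : x ∈ A) (hcj : IsConj t x)
    (hQ : Q ≤ centralizer ({t} : Set T)) (hxQ : ∀ c ∈ Q, c * x = x * c → c = 1) :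
    ∃ f : ℕ, (∀ B : Subgroup T, B ≤ centralizer ({t} : Set T) → A.relIndex B ≤ f) ∧
      f ^ 4 * Nat.card Q < (centralizer ({t} : Set T)).index := by
  obtain ⟨f, h1, h2⟩ := hA t ht ho
  refine ⟨f, h1, ?_⟩
  have h3 := rel_ge (h1 Q hQ)
  have h4 : Nat.card (A ⊓ Q : Subgroup T) ≤ {u : T | u ∈ A ∧ IsConj t u}.ncard := by
    rw [← Nat.card_coe_set_eq]
    refine Nat.card_le_card_of_injective
      (fun c : (A ⊓ Q : Subgroup T) => (⟨(c : T) * x * (c : T)⁻¹, ?_⟩ : {u : T | u ∈ A ∧ IsConj t u})) ?_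
    · exact ⟨mul_mem (mul_mem c.2.1 hx) (inv_mem c.2.1), hcj.trans (isConj_iff.2 ⟨c, rfl⟩)⟩
    · intro c d hcd
      have h5 : (c : T) * x * (c : T)⁻¹ = (d : T) * x * (d : T)⁻¹ := congrArg Subtype.val hcd
      have h6 := hxQ ((d : T)⁻¹ * c) (mul_mem (inv_mem d.2.2) c.2.2) (by
        calc (d : T)⁻¹ * c * x = (d : T)⁻¹ * ((c : T) * x * (c : T)⁻¹) * c := by group
          _ = (d : T)⁻¹ * ((d : T) * x * (d : T)⁻¹) * c := by rw [h5]
          _ = _ := by group)
      exact Subtype.ext (inv_mul_eq_one.1 h6).symm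
  calc f ^ 4 * Nat.card Q ≤ f ^ 4 * (Nat.card (A ⊓ Q : Subgroup T) * f) := Nat.mul_le_mul_left _ h3
    _ = f ^ 5 * Nat.card (A ⊓ Q : Subgroup T) := by ring
    _ ≤ f ^ 5 * _ := Nat.mul_le_mul_left _ h4
    _ < _ := h2

/-- `C_Q(x) = 1` for `x` opposite. -/
theorem opp_centralizer {t x n : T} (hn : n = t * x * t) (hQt : ∀ c ∈ Q, c * t = t * c)
    (hQn : ∀ c ∈ Q, n * c * n⁻¹ ∈ Q → c = 1) : ∀ c ∈ Q, c * x = x * c → c = 1 := by
  intro c hc hcx
  apply hQn c hc
  have h1 : n * c = c * n := by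
    rw [hn]
    calc t * x * t * c = t * x * (t * c) := by group
      _ = t * (x * c) * t := by rw [← hQt c hc]; group
      _ = (t * c) * x * t := by rw [← hcx]; group
      _ = c * (t * x * t) := by rw [← hQt c hc]; group
  rw [h1, mul_inv_cancel_right]
  exact hc

/-- **(S2)** An element of `A ∩ Q`, `A ∩ W` of order at most `w`. -/
theorem s2 (hA : Fix A) (hS : Sp Z W Q) {q n w k : ℕ} (hZ : Nat.card Z = q) (hk : Nat.card W = k)
    (hQ : Nat.card Q = k * n ^ 2)
    (hw : Nat.card (A ⊓ W : Subgroup T) ≤ w) (hZA : ¬ Z ≤ A) {t : T} (ht : t ∈ A) (htQ : t ∈ Q)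
    (ho : orderOf t = 2) : (k * n) ^ 5 < (q * w) ^ 5 * (centralizer ({t} : Set T)).index := by
  obtain ⟨f, h1, h2⟩ := hA t ht ho
  have hk0 : 0 < k := by rw [← hk]; exact Nat.card_pos
  have hq : 0 < q := by rw [← hZ]; exact Nat.card_pos
  have hw0 : 0 < w := lt_of_lt_of_le Nat.card_pos hw
  set B := Q ⊓ centralizer ({t} : Set T) with hB
  have h3 := rel_ge (h1 B inf_le_right)
  have h4 : k * n ^ 2 ≤ Nat.card B * q := by
    have h5 := card_centralizer_ge hS le_rfl htQ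
    rwa [hQ, hZ] at h5
  have h5 : Nat.card (A ⊓ B : Subgroup T) ≤ n * w := by
    have hle : (A ⊓ B : Subgroup T) ≤ A ⊓ Q := le_inf inf_le_left (inf_le_right.trans inf_le_left)
    have h6 := iso hS (R := A ⊓ Q) inf_le_right (fun h => hZA (h.trans inf_le_left))
    rw [hk, hQ] at h6
    have h7 : (A ⊓ Q ⊓ W : Subgroup T) = A ⊓ W := by
      rw [inf_assoc, inf_eq_right.2 hS.le']
    rw [h7] at h6
    have h8 : Nat.card (A ⊓ Q : Subgroup T) ^ 2 ≤ (n * w) ^ 2 := by
      have h9 : Nat.card (A ⊓ Q : Subgroup T) ^ 2 * k ≤ (n * w) ^ 2 * k := by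
        calc _ ≤ _ := h6
          _ ≤ (k * n ^ 2) * w ^ 2 := Nat.mul_le_mul_left _ (Nat.pow_le_pow_left hw 2)
          _ = _ := by ring
      exact Nat.le_of_mul_le_mul_right h9 hk0
    exact (Subgroup.card_le_of_le hle).trans ((Nat.pow_le_pow_iff_left two_ne_zero).1 h8)
  have h6 : k * n ≤ (q * w) * f := by
    rcases Nat.eq_zero_or_pos n with h0 | h0
    · rw [h0, mul_zero]; exact Nat.zero_le _
    · have h7 : n * (k * n) ≤ n * ((q * w) * f) := by
        calc n * (k * n) = k * n ^ 2 := by ring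
          _ ≤ Nat.card B * q := h4
          _ ≤ (Nat.card (A ⊓ B : Subgroup T) * f) * q := Nat.mul_le_mul_right _ h3
          _ ≤ ((n * w) * f) * q := Nat.mul_le_mul_right _ (Nat.mul_le_mul_right _ h5)
          _ = _ := by ring
      exact Nat.le_of_mul_le_mul_left h7 h0
  have h7 : 1 ≤ {u : T | u ∈ A ∧ IsConj t u}.ncard :=
    (Set.ncard_pos (Set.toFinite _)).2 ⟨t, ht, IsConj.refl t⟩
  have h8 : f ^ 5 < (centralizer ({t} : Set T)).index :=
    lt_of_le_of_lt (Nat.le_mul_of_pos_right _ h7) h2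
  calc (k * n) ^ 5 ≤ ((q * w) * f) ^ 5 := Nat.pow_le_pow_left h6 5
    _ = (q * w) ^ 5 * f ^ 5 := by ring
    _ < _ := Nat.mul_lt_mul_of_pos_left h8 (pow_pos (Nat.mul_pos hq hw0) 5)

/-- **(S3)** A subgroup `B` of `C(t)` meeting `A` trivially. -/
theorem s3 (hA : Fix A) {t : T} (ht : t ∈ A) (ho : orderOf t = 2) {B : Subgroup T}
    (hB : B ≤ centralizer ({t} : Set T)) (hAB : A ⊓ B = ⊥) : Nat.card B ^ 6 < Nat.card T := by
  obtain ⟨f, h1, h2⟩ := hA t ht ho
  have h3 := rel_ge (h1 B hB)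
  rw [hAB, Subgroup.card_bot, one_mul] at h3
  have h7 : 1 ≤ {u : T | u ∈ A ∧ IsConj t u}.ncard :=
    (Set.ncard_pos (Set.toFinite _)).2 ⟨t, ht, IsConj.refl t⟩
  have h8 : f ^ 5 < (centralizer ({t} : Set T)).index :=
    lt_of_le_of_lt (Nat.le_mul_of_pos_right _ h7) h2
  have h9 := (centralizer ({t} : Set T)).card_mul_index
  have h10 : Nat.card B ≤ Nat.card (centralizer ({t} : Set T)) := Subgroup.card_le_of_le hB
  have hB0 : 0 < Nat.card B := Nat.card_pos
  calc Nat.card B ^ 6 = Nat.card B * Nat.card B ^ 5 := by ring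
    _ ≤ Nat.card B * f ^ 5 := Nat.mul_le_mul_left _ (Nat.pow_le_pow_left h3 5)
    _ < Nat.card B * (centralizer ({t} : Set T)).index := Nat.mul_lt_mul_of_pos_left h8 hB0
    _ ≤ Nat.card (centralizer ({t} : Set T)) * (centralizer ({t} : Set T)).index := Nat.mul_le_mul_right _ h10
    _ = Nat.card T := h9

end Cls

end Cfsg.Agent.H255.IFK
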