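import Cfsg.Agent.H255.IF.EType
import Cfsg.Agent.H934.HeisE7
import Cfsg.Agent.H83.RedESeven
import Cfsg.Agent.H584.War.Num
import Cfsg.Agent.H255.IF.Cell

/-!
# S5719, `E₇(q)`, `q` even (helper255)
-/

set_option autoImplicit false

namespace Cfsg.Agent.H255.IFESeven

open Cfsg Cfsg.Lie Cfsg.Agent.ChevalleyStructure Cfsg.Agent.ChevalleyStructure.RootWord
  Cfsg.Agent.ChevalleyStructure.RootCombGood
  Cfsg.Agent.H430.CfChev Cfsg.Agent.H255.IFE Cfsg.Agent.H255.IFR Cfsg.Agent.H209.Fxy
open Cfsg.Agent.H934.HeisE7 (tab tab_ok)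

theorem hp : Cfsg.Agent.Nodes.RGDChev.IsType chevE7 7 CoxeterMatrix.E₇ := by
  simp [Cfsg.Agent.Nodes.RGDChev.IsType, Cfsg.Agent.Nodes.RGDChev.typeList]

def pp : List (List ℕ × List ℕ) := [([93], [124, 32]), ([99, 78], [95, 47]), ([94, 73], [93, 52]), ([95, 69], [94, 56]),
  ([96, 66], [95, 59]), ([97, 64], [96, 61]), ([98, 63], [97, 62])]

theorem hpp : okPaths chevE7 OE7 pp = true := by decide +kernel

theorem hlev : ∀ r ∈ OE7, car chevE7 (chevE7.nroots - 1) r = 1 → ∃ i, tab.S i = r := by decide +kernel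

theorem hS : ∀ i, 1 ≤ car chevE7 (chevE7.nroots - 1) (tab.S i) := by decide +kernel

theorem hall : ∀ s < chevE7.nroots, 1 ≤ car chevE7 (chevE7.nroots - 1) s → (∃ i, tab.S i = s) ∨ s = tab.th := by
  decide +kernel

theorem rep1 : RepOK chevE7 tab 24 [125] := ⟨[], [125], by decide +kernel, by decide +kernel, by decide +kernel,
  Or.inl (by decide +kernel)⟩

theorem rep2 : RepOK chevE7 tab 24 [125, 92] := ⟨[0, 2, 3, 4, 1, 3, 2], [124, 108], by decide +kernel,
  by decide +kernel, by decide +kernel, Or.inl (by decide +kernel)⟩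

theorem rep3 : RepOK chevE7 tab 24 [125, 92, 63] := ⟨[0, 2, 3, 4, 5, 1, 3, 4, 2, 3, 0, 2, 1, 3, 4], [92, 120, 98],
  by decide +kernel, by decide +kernel, by decide +kernel,
  Or.inr ⟨92, [120, 98], rfl, by decide +kernel, by decide +kernel, by decide +kernel, by decide +kernel⟩⟩

theorem rep4 : RepOK chevE7 tab 24 [125, 92, 87] := ⟨[0, 2], [124, 108, 103], by decide +kernel,
  by decide +kernel, by decide +kernel, Or.inl (by decide +kernel)⟩

theorem rep5 : RepOK chevE7 tab 24 [125, 92, 63, 87] := ⟨[0, 2, 3, 4, 5, 1, 3, 4, 2, 0], [92, 120, 98, 115],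
  by decide +kernel, by decide +kernel, by decide +kernel,
  Or.inr ⟨92, [120, 98, 115], rfl, by decide +kernel, by decide +kernel, by decide +kernel, by decide +kernel⟩⟩

theorem main {F : Type*} [Field F] [Fintype F] [CharP F 2] {A : Subgroup ↥(chevE7.group F)}
    (hA : IFK.Fix A) {t : ↥(chevE7.group F)} (ht : t ∈ A) (ho : orderOf t = 2) : A = ⊤ := by
  refine IFE.main (j := 24) (dim := 133) (c := 3) (e := 33) (m := 16) (distOk_all inE7 chkdE7) tab rfl hp
    H83.RedESeven.allchk_eq hlev hpp LE7_eq LE7_le carryE7 (by norm_num) rfl (by norm_num) (by norm_num) hS hall ?_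
    (by norm_num) ?_ tab_ok hA ht ho
  · have := H584.War.Num.card_E7 F
    rwa [Nat.card_eq_fintype_card (α := F)] at this
  · intro R hR
    simp only [H83.RedESeven.reps, List.mem_cons, List.not_mem_nil, or_false] at hR
    rcases hR with rfl | rfl | rfl | rfl | rfl | rfl
    · exact Or.inl rfl
    · exact Or.inr rep1
    · exact Or.inr rep2
    · exact Or.inr rep3
    · exact Or.inr rep4
    · exact Or.inr rep5

/-- **The cell `e7_even`.** -/
theorem e7_even (F : Type) [Field F] [Fintype F] (h : Even (Fintype.card F)) (hs : IsSimpleGroup ↥(chevE7.group F)) :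
    KillE ↥(chevE7.group F) := by
  have := IFC.charP_of_even F h
  have hfin : Finite (GL chevE7.Idx F) := inferInstance
  have hfinG : Finite ↥(chevE7.group F) := inferInstance
  exact IFC.killE_of (IFC.exists_ne_comm hp.inList tab tab_ok (by norm_num)) fun A hA t ht ho => main hA ht ho

end Cfsg.Agent.H255.IFESeven
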