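import Cfsg.Agent.H255.IF.EType
import Cfsg.Agent.H934.HeisE6
import Cfsg.Agent.H83.RedESix
import Cfsg.Agent.H584.War.Num
import Cfsg.Agent.H255.IF.Cell

/-!
# S5719, `E₆(q)`, `q` even (helper255)
-/

set_option autoImplicit false

namespace Cfsg.Agent.H255.IFESix

open Cfsg Cfsg.Lie Cfsg.Agent.ChevalleyStructure Cfsg.Agent.ChevalleyStructure.RootWord
  Cfsg.Agent.ChevalleyStructure.RootCombGood
  Cfsg.Agent.H430.CfChev Cfsg.Agent.H255.IFE Cfsg.Agent.H255.IFR Cfsg.Agent.H209.Fxy
open Cfsg.Agent.H934.HeisE6 (tab tab_ok)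

theorem hp : Cfsg.Agent.Nodes.RGDChev.IsType chevE6 6 CoxeterMatrix.E₆ := by
  simp [Cfsg.Agent.Nodes.RGDChev.IsType, Cfsg.Agent.Nodes.RGDChev.typeList]

def pp : List (List ℕ × List ℕ) := [([61, 56], [50, 15]), ([46], [70, 25]), ([50, 42], [47, 29]), ([47, 39], [46, 32]),
  ([48, 37], [47, 34]), ([49, 36], [48, 35])]

theorem hpp : okPaths chevE6 OE6 pp = true := by decide +kernel

theorem hlev : ∀ r ∈ OE6, car chevE6 (chevE6.nroots - 1) r = 1 → ∃ i, tab.S i = r := by decide +kernel

theorem hS : ∀ i, 1 ≤ car chevE6 (chevE6.nroots - 1) (tab.S i) := by decide +kernel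

theorem hall : ∀ s < chevE6.nroots, 1 ≤ car chevE6 (chevE6.nroots - 1) s → (∃ i, tab.S i = s) ∨ s = tab.th := by
  decide +kernel

theorem rep1 : RepOK chevE6 tab 13 [71] := ⟨[], [71], by decide +kernel, by decide +kernel, by decide +kernel,
  Or.inl (by decide +kernel)⟩

theorem rep2 : RepOK chevE6 tab 13 [71, 60] := ⟨[1, 3, 4, 2, 3], [70, 63], by decide +kernel, by decide +kernel,
  by decide +kernel, Or.inl (by decide +kernel)⟩

theorem rep3 : RepOK chevE6 tab 13 [71, 60, 44] := ⟨[1, 3], [70, 63, 51], by decide +kernel, by decide +kernel,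
  by decide +kernel, Or.inl (by decide +kernel)⟩

theorem main {F : Type*} [Field F] [Fintype F] [CharP F 2] {A : Subgroup ↥(chevE6.group F)}
    (hA : IFK.Fix A) {t : ↥(chevE6.group F)} (ht : t ∈ A) (ho : orderOf t = 2) : A = ⊤ := by
  refine IFE.main (j := 13) (dim := 78) (c := 3) (e := 21) (m := 10) (distOk_all inE6 chkdE6) tab rfl hp
    H83.RedESix.allchk_eq hlev hpp LE6_eq LE6_le carryE6 (by norm_num) rfl (by norm_num) (by norm_num) hS hall ?_
    (by norm_num) ?_ tab_ok hA ht ho
  · have := H584.War.Num.card_E6 F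
    rwa [Nat.card_eq_fintype_card (α := F)] at this
  · intro R hR
    simp only [H83.RedESix.reps, List.mem_cons, List.not_mem_nil, or_false] at hR
    rcases hR with rfl | rfl | rfl | rfl
    · exact Or.inl rfl
    · exact Or.inr rep1
    · exact Or.inr rep2
    · exact Or.inr rep3

/-- **The cell `e6_even`.** -/
theorem e6_even (F : Type) [Field F] [Fintype F] (h : Even (Fintype.card F)) (hs : IsSimpleGroup ↥(chevE6.group F)) :
    KillE ↥(chevE6.group F) := by
  have := IFC.charP_of_even F h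
  have hfin : Finite (GL chevE6.Idx F) := inferInstance
  have hfinG : Finite ↥(chevE6.group F) := inferInstance
  exact IFC.killE_of (IFC.exists_ne_comm hp.inList tab tab_ok (by norm_num)) fun A hA t ht ho => main hA ht ho

end Cfsg.Agent.H255.IFESix
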