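import Cfsg.Agent.H255.IF.RootG
import Cfsg.Agent.H255.IF.KeyB
import Cfsg.Agent.H255.IF.Cell
import Cfsg.Agent.H934.HeisF4Even
import Cfsg.Agent.S2174

/-!
# S5719, `F₄(q)`, `q` even (helper255)
-/

set_option autoImplicit false
set_option linter.unusedSectionVars false

namespace Cfsg.Agent.H255.IFF

open scoped Pointwise
open Cfsg Cfsg.Lie Cfsg.Agent.ChevalleyStructure Cfsg.Agent.ChevalleyStructure.Elts
  Cfsg.Agent.ChevalleyStructure.RootWord Cfsg.Agent.ChevalleyStructure.RootCombGood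
  Cfsg.Agent.H934.HeisChev Cfsg.Agent.H934.HeisSq Cfsg.Agent.H934.HeisF4Even Cfsg.Agent.H934.HeisF4G2
  Cfsg.Agent.H430.CfChev Cfsg.Agent.H70.ChevFix Cfsg.Agent.H255.IFK
  Cfsg.Agent.H255.IFR Cfsg.Agent.H255.IFG Subgroup Cfsg.Agent.H209.Fxy

universe u

local notation "xr" => H934.HeisChev.xe

variable {F : Type u} [Field F] [Fintype F] [CharP F 2]

theorem hO : DistOk chevF4 OF4 (fun r => dlF4.getD r 0) := distOk chkdF4

/-- the paths -/
def pp (s : ℕ) : List ℕ :=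
  match s with
  | 0 => [24, 1, 0] | 1 => [24, 1] | 2 => [26, 2] | 4 => [31, 4] | 5 => [32, 5] | 6 => [24, 6] | 15 => [42, 15]
  | 16 => [43, 16] | 17 => [24, 17] | 21 => [45, 21] | 22 => [24, 22] | 23 => [46, 23] | 24 => [24] | 25 => [26, 25]
  | 26 => [26] | 30 => [31, 30] | 31 => [31] | 32 => [32] | 41 => [42, 41] | 42 => [42] | 43 => [43] | 45 => [45]
  | 46 => [46] | 47 => [24, 47] | _ => []

theorem hpp : okAll chevF4 OF4 pp = true := by decide +kernel

/-- the special group of the long roots -/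
noncomputable abbrev EL (F : Type u) [Field F] [CharP F 2] : Subgroup ↥(chevF4.group F) := (DD F).Qg

theorem Zg_eq : (DD F).Zg = ZT chevF4 F := by
  ext g
  rw [mem_ZT hF4]
  constructor
  · rintro ⟨a, rfl⟩; exact ⟨a, rfl⟩
  · rintro ⟨a, rfl⟩; exact ⟨a, rfl⟩

theorem xL_mem (i : Fin 8) (a : F) : xr hF4 (tabL.S i) a ∈ EL F := by
  have h1 := (DD F).X_mem_Qg (Pi.single i a)
  have h2 : (DD F).X (Pi.single i a) = xr hF4 (tabL.S i) a := (tabL.rs hF4 tabL_ok F e_ne).X_single i a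
  rwa [h2] at h1

theorem lev_mem : ∀ r ∈ OF4, car chevF4 (chevF4.nroots - 1) r = 1 → ∃ i, tabL.S i = r := by decide +kernel

theorem hE : HE hF4 OF4 4 (EL F) where
  sp := by
    have := sp_of_D0 (DD F)
    rwa [Zg_eq] at this
  card := by
    rw [(DD F).card_Qg, Nat.card_fun, Nat.card_eq_fintype_card (α := Fin 8), Fintype.card_fin]
    ring
  mem := by
    intro r hr h1 a
    obtain ⟨i, rfl⟩ := lev_mem r hr h1
    exact xL_mem i a
  conjZ := fun a b ha hb => z_isConj0 hF4 tabL_ok.th_lt tabL_ok.p_lt tabL_ok.p_th a b ha hb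

/-! ### (S1) -/

/-- all long root groups -/
def AllL (A : Subgroup ↥(chevF4.group F)) : Prop := ∀ s ∈ OF4, ∀ b : F, xr hF4 s b ∈ A

theorem AllL.conj {A : Subgroup ↥(chevF4.group F)} (h : AllL A) {w : List ℕ} (hw : ∀ a ∈ w, a < chevF4.rank)
    {g : ↥(chevF4.group F)} (hg : ∀ s < chevF4.nroots, ∀ t : F, g * xr hF4 s t * g⁻¹ = xr hF4 (wact chevF4 w s) t) :
    AllL (MulAut.conj g • A) := by
  have G := RootComb.good_of_mem hF4
  intro s hs b
  have h1 : wact chevF4 w.reverse s ∈ OF4 := wact_mem hO (fun a ha => hw a (by simpa using ha)) hs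
  have h2 := hg _ (hO.lt _ h1) b
  rw [wact_reverse' G hw (hO.lt _ hs)] at h2
  rw [← h2]
  exact conj_mem_conj (h _ h1 b)

theorem small {A : Subgroup ↥(chevF4.group F)} (hA : IFK.Fix A) (h : AllL A) :
    ∃ f : ℕ, f < Fintype.card F ∧ ∀ B : Subgroup ↥(chevF4.group F),
      B ≤ centralizer ({xr hF4 (chevF4.nroots - 1) 1} : Set ↥(chevF4.group F)) → A.relIndex B ≤ f :=
  IFG.small hF4 hO (fun a b ha hb => z_isConj0 hF4 tabL_ok.th_lt tabL_ok.p_lt tabL_ok.p_th a b ha hb)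
    (by decide +kernel) LF4_eq LF4_le carryF4 (by norm_num) (j := 15) (by norm_num) (by decide +kernel) hA h

/-- the torus elements of the long fundamental root `p₃` lie in `A` -/
theorem hG_mem {A : Subgroup ↥(chevF4.group F)} (h : AllL A) (c : F) :
    (⟨hG hF4 (chevF4.simple 2) c, hG_mem_group hF4 _ _⟩ : ↥(chevF4.group F)) ∈ A := by
  have h25 : chevF4.simple 2 ∈ OF4 := by decide +kernel
  have h25' : chevF4.neg (chevF4.simple 2) ∈ OF4 := by decide +kernel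
  have hn : ∀ c : F, (⟨nG hF4 (chevF4.simple 2) c, nG_mem_group hF4 _ _⟩ : ↥(chevF4.group F)) ∈ A := by
    intro c
    have e : (⟨nG hF4 (chevF4.simple 2) c, nG_mem_group hF4 _ _⟩ : ↥(chevF4.group F)) =
        xr hF4 (chevF4.simple 2) c * (xr hF4 (chevF4.neg (chevF4.simple 2)) (-c⁻¹) * xr hF4 (chevF4.simple 2) c) :=
      Subtype.ext (nG_def hF4 _ _)
    rw [e]
    exact mul_mem (h _ h25 _) (mul_mem (h _ h25' _) (h _ h25 _))
  have e : (⟨hG hF4 (chevF4.simple 2) c, hG_mem_group hF4 _ _⟩ : ↥(chevF4.group F)) =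
      ⟨nG hF4 (chevF4.simple 2) c, nG_mem_group hF4 _ _⟩ * ⟨nG hF4 (chevF4.simple 2) (-1), nG_mem_group hF4 _ _⟩ :=
    Subtype.ext (hG_def hF4 _ _)
  rw [e]
  exact mul_mem (hn _) (hn _)

/-- a nontrivial element of `X_{p₂}` gives all -/
theorem xtwo {A : Subgroup ↥(chevF4.group F)} (h : AllL A) {a : F} (ha : a ≠ 0) (hx : xr hF4 (chevF4.simple 1) a ∈ A)
    (b : F) : xr hF4 (chevF4.simple 1) b ∈ A := by
  by_cases hb : b = 0
  · rw [hb, H934.HeisChev.xe_zero]; exact one_mem _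
  have hc : b / a ≠ 0 := div_ne_zero hb ha
  have h1 := Cfsg.Agent.S1032.result (F := F) chevF4 hF4 2 (chevF4.simple 1) (by decide) (by decide) (a / b)
    (div_ne_zero ha hb) a
  have h2 : chevF4.cartan 2 (chevF4.simple 1) = -1 := by decide +kernel
  have h3 : ((a / b) ^ (-1 : ℤ)) * a = b := by
    rw [zpow_neg, zpow_one, inv_div, div_mul_cancel₀ _ ha]
  rw [h2, h3] at h1
  set H : ↥(chevF4.group F) := ⟨hG hF4 (chevF4.simple 2) (a / b), hG_mem_group hF4 _ _⟩ with hH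
  have h4 : H * xr hF4 (chevF4.simple 1) a * H⁻¹ = xr hF4 (chevF4.simple 1) b := by
    rw [mul_inv_eq_iff_eq_mul]
    apply Subtype.ext
    apply Units.ext
    show (hG hF4 (chevF4.simple 2) (a / b) * xG hF4 (chevF4.simple 1) a : GL chevF4.Idx F).val =
      (xG hF4 (chevF4.simple 1) b * hG hF4 (chevF4.simple 2) (a / b) : GL chevF4.Idx F).val
    rw [Units.val_mul, Units.val_mul, coe_hG]
    exact h1
  rw [← h4]
  exact mul_mem (mul_mem (hG_mem h _) hx) (inv_mem (hG_mem h _))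

theorem short_mem {A : Subgroup ↥(chevF4.group F)} (hA : IFK.Fix A) (h : AllL A) (b : F) :
    xr hF4 (chevF4.simple 1) b ∈ A := by
  have hfin : Finite (GL chevF4.Idx F) := inferInstance
  have hfinG : Finite ↥(chevF4.group F) := inferInstance
  obtain ⟨f, hf, hB⟩ := small hA h
  have h27 : chevF4.simple 1 < chevF4.nroots := by decide
  have hcar : 0 ≤ car chevF4 (chevF4.nroots - 1) (chevF4.simple 1) := by decide +kernel
  have h1 := hB (XX chevF4 F (chevF4.simple 1)) (by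
    intro x hx
    obtain ⟨a, rfl⟩ := (mem_XX hF4).1 hx
    rw [Subgroup.mem_centralizer_singleton_iff]
    exact Subtype.ext (H86.Par.comm_top0 hF4 h27 hcar a 1))
  have h2 := rel_ge h1
  have h3 : Nat.card (XX chevF4 F (chevF4.simple 1)) = Fintype.card F := by
    rw [← Nat.card_eq_fintype_card (α := F)]
    symm
    refine Nat.card_congr (Equiv.ofBijective
      (fun a : F => (⟨xr hF4 (chevF4.simple 1) a, (mem_XX hF4).2 ⟨a, rfl⟩⟩ : XX chevF4 F (chevF4.simple 1))) ⟨?_, ?_⟩)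
    · intro a b h
      exact H70.ChevFix.xe_inj hF4 h27 (congrArg Subtype.val h)
    · rintro ⟨g, hg⟩
      obtain ⟨a, rfl⟩ := (mem_XX hF4).1 hg
      exact ⟨a, rfl⟩
  rw [h3] at h2
  have h4 : (A ⊓ XX chevF4 F (chevF4.simple 1) : Subgroup ↥(chevF4.group F)) ≠ ⊥ := by
    intro h0
    rw [h0, Subgroup.card_bot, one_mul] at h2
    omega
  obtain ⟨x, hx1⟩ := (Subgroup.ne_bot_iff_exists_ne_one).1 h4
  obtain ⟨a, ha⟩ := (mem_XX hF4).1 x.2.2
  have ha' : (x : ↥(chevF4.group F)) = xr hF4 (chevF4.simple 1) a := ha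
  have ha0 : a ≠ 0 := by
    rintro rfl
    exact hx1 (Subtype.ext (by rw [ha', H934.HeisChev.xe_zero]; rfl))
  exact xtwo h ha0 (by rw [← ha']; exact x.2.1) b

theorem top_of_all {A : Subgroup ↥(chevF4.group F)} (hA : IFK.Fix A) (h : AllL A) : A = ⊤ := by
  have hfin : Finite (GL chevF4.Idx F) := inferInstance
  have hfinG : Finite ↥(chevF4.group F) := inferInstance
  have G := RootComb.good_of_mem hF4
  -- all short root groups
  have key : ∀ w : List ℕ, (∀ a ∈ w, a < chevF4.rank) → ∀ b : F, xr hF4 (wact chevF4 w (chevF4.simple 1)) b ∈ A := by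
    intro w hw b
    have hw' : ∀ a ∈ w.reverse, a < chevF4.rank := fun a ha => hw a (by simpa using ha)
    obtain ⟨g, -, hg⟩ := exists_weyl hF4 (F := F) (⊤ : Subgroup ↥(chevF4.group F)) (fun _ _ => mem_top _) hw'
    have h27 : chevF4.simple 1 < chevF4.nroots := by decide
    have h1 := short_mem (hA.conj g) (h.conj hw' hg) b
    have h2 := hg _ (wact_lt G hw h27) b
    rw [wact_reverse G hw h27] at h2
    rw [mem_conj, ← h2] at h1
    have e1 : g⁻¹ * (g * xr hF4 (wact chevF4 w (chevF4.simple 1)) b * g⁻¹) * g =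
        xr hF4 (wact chevF4 w (chevF4.simple 1)) b := by group
    rwa [e1] at h1
  refine IFR.eq_top hF4 fun i hi t => ?_
  have hi' : i < 4 := hi
  interval_cases i
  · have e1 : wact chevF4 [1, 0] (chevF4.simple 1) = chevF4.simple 0 := by decide +kernel
    have e2 : wact chevF4 [0, 1, 0] (chevF4.simple 1) = chevF4.neg (chevF4.simple 0) := by decide +kernel
    have k1 := key [1, 0] (by decide) t
    have k2 := key [0, 1, 0] (by decide) t
    rw [e1] at k1
    rw [e2] at k2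
    exact ⟨k1, k2⟩
  · have e2 : wact chevF4 [1] (chevF4.simple 1) = chevF4.neg (chevF4.simple 1) := by decide +kernel
    have k2 := key [1] (by decide) t
    rw [e2] at k2
    exact ⟨key [] (by decide) t, k2⟩
  · exact ⟨h _ (by decide +kernel) t, h _ (by decide +kernel) t⟩
  · exact ⟨h _ (by decide +kernel) t, h _ (by decide +kernel) t⟩

/-- **(S1)** `A ≠ ⊤` meets no conjugate of `Z`. -/
theorem noZ {A : Subgroup ↥(chevF4.group F)} (hA : IFK.Fix A) (hne : A ≠ ⊤) (g : ↥(chevF4.group F)) :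
    (MulAut.conj g • A) ⊓ ZT chevF4 F = ⊥ := by
  have hfin : Finite (GL chevF4.Idx F) := inferInstance
  have hfinG : Finite ↥(chevF4.group F) := inferInstance
  rw [Subgroup.eq_bot_iff_forall]
  rintro z ⟨hzA, hz⟩
  obtain ⟨a, rfl⟩ := (mem_ZT hF4).1 hz
  by_contra hz1
  have ha : a ≠ 0 := by
    rintro rfl
    exact hz1 (H934.HeisChev.xe_zero hF4 _)
  have h1 := all_of_top hF4 hO hE hpp LF4_eq LF4_le carryF4 (by norm_num) (by norm_num) (hA.conj g) ha hzA
  have h2 := top_of_all (hA.conj g) h1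
  apply hne
  rw [Subgroup.eq_top_iff']
  intro x
  have h3 : g * x * g⁻¹ ∈ MulAut.conj g • A := by rw [h2]; exact mem_top _
  rw [mem_conj] at h3
  have e1 : g⁻¹ * (g * x * g⁻¹) * g = x := by group
  rwa [e1] at h3

/-! ### `Q = E V`, `V = Z(Q)` of order `q^7` -/

/-- `V` -/
noncomputable abbrev VS (F : Type u) [Field F] [CharP F 2] : Subgroup ↥(chevF4.group F) := (ii F).range

theorem card_VS : Nat.card (VS F) = Fintype.card F ^ 7 := by
  rw [← Nat.card_congr (MonoidHom.ofInjective (ii_inj (F := F))).toEquiv, card_EE]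

theorem xE_mem (k : Fin 7) (a : F) : xr hF4 (rE k) a ∈ VS F := ⟨sg k a, ii_sg k a⟩

theorem Z_le_V : ZT chevF4 F ≤ VS F := by
  intro z hz
  obtain ⟨a, rfl⟩ := (mem_ZT hF4).1 hz
  exact xE_mem 6 a

theorem E_comm_V {e v : ↥(chevF4.group F)} (he : e ∈ EL F) (hv : v ∈ VS F) : e * v = v * e := by
  obtain ⟨x, rfl⟩ := hv
  obtain ⟨w, a, rfl⟩ := he
  have h1 := (ext (F := F)).X_i w x
  have h2 := (ext (F := F)).i_j a
  have h3 : (DD F).z a * ii F x = ii F x * (DD F).z a := by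
    rw [← h2, ← map_mul, mul_comm, map_mul]
  rw [mul_assoc, h3, ← mul_assoc, h1, mul_assoc]

/-- `Q` as a set of products -/
def QS (F : Type u) [Field F] [Fintype F] [CharP F 2] : Subgroup ↥(chevF4.group F) where
  carrier := {g | ∃ e ∈ EL F, ∃ v ∈ VS F, g = e * v}
  one_mem' := ⟨1, one_mem _, 1, one_mem _, (mul_one 1).symm⟩
  mul_mem' := by
    rintro _ _ ⟨e, he, v, hv, rfl⟩ ⟨e', he', v', hv', rfl⟩
    refine ⟨e * e', mul_mem he he', v * v', mul_mem hv hv', ?_⟩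
    rw [mul_assoc e v, ← mul_assoc v e', ← E_comm_V he' hv, mul_assoc, mul_assoc]
  inv_mem' := by
    rintro _ ⟨e, he, v, hv, rfl⟩
    refine ⟨e⁻¹, inv_mem he, v⁻¹, inv_mem hv, ?_⟩
    rw [mul_inv_rev, ← E_comm_V (inv_mem he) (inv_mem hv)]

theorem lev_all : ∀ s < chevF4.nroots, 1 ≤ car chevF4 (chevF4.nroots - 1) s → (∃ i, tabL.S i = s) ∨ (∃ k, rE k = s) := by
  decide +kernel

theorem lev_S : ∀ i, 1 ≤ car chevF4 (chevF4.nroots - 1) (tabL.S i) := by decide +kernel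

theorem lev_E : ∀ k, 1 ≤ car chevF4 (chevF4.nroots - 1) (rE k) := by decide +kernel

theorem x_mem_QS {s : ℕ} (hs : s < chevF4.nroots) (h : 1 ≤ car chevF4 (chevF4.nroots - 1) s) (a : F) :
    xr hF4 s a ∈ QS F := by
  rcases lev_all s hs h with ⟨i, rfl⟩ | ⟨k, rfl⟩
  · exact ⟨_, xL_mem i a, 1, one_mem _, (mul_one _).symm⟩
  · exact ⟨1, one_mem _, _, xE_mem k a, (one_mul _).symm⟩

theorem QS_eq : QS F = QT chevF4 F := by
  apply le_antisymm
  · rintro _ ⟨e, ⟨w, a, rfl⟩, v, ⟨x, rfl⟩, rfl⟩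
    have hz : ∀ a : F, xr hF4 47 a ∈ QT chevF4 F := fun a => mem_QT hF4 (by decide) (by decide +kernel) a
    refine mul_mem (mul_mem ?_ (hz a)) ?_
    · have key : ∀ l : List (Fin 8), (tabL.rs hF4 tabL_ok F e_ne).P l w ∈ QT chevF4 F := by
        intro l
        induction l with
        | nil => exact one_mem _
        | cons i l ih =>
          rw [(tabL.rs hF4 tabL_ok F e_ne).P_cons]
          exact mul_mem (mem_QT hF4 (tabL_ok.S_lt i) (lev_S i) (w i)) ih
      exact key _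
    · rw [ii_eq]
      have hE' : ∀ (k : Fin 7) (a : F), xr hF4 (rE k) a ∈ QT chevF4 F := fun k a =>
        mem_QT hF4 (rE_lt k) (lev_E k) a
      exact mul_mem (hE' 0 _) (mul_mem (hE' 1 _) (mul_mem (hE' 2 _) (mul_mem (hE' 3 _) (mul_mem (hE' 4 _)
        (mul_mem (hE' 5 _) (hE' 6 _))))))
  · intro g hg
    have h1 : H86.Graded.Q chevF4 F (chevF4.nroots - 1) ≤ (QS F).map (chevF4.group F).subtype := by
      rw [H86.Graded.Q_le_iff hF4]
      intro r hr hl t
      exact ⟨xr hF4 r t, x_mem_QS hr hl t, rfl⟩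
    obtain ⟨g', hg', e⟩ := h1 hg
    have : g' = g := Subtype.ext e
    rwa [← this]

theorem V_comm {v w : ↥(chevF4.group F)} (hv : v ∈ VS F) (hw : w ∈ VS F) : v * w = w * v := by
  obtain ⟨x, rfl⟩ := hv
  obtain ⟨y, rfl⟩ := hw
  rw [← map_mul, mul_comm, map_mul]

theorem comm_QS {e v e' v' : ↥(chevF4.group F)} (he : e ∈ EL F) (hv : v ∈ VS F) (he' : e' ∈ EL F) (hv' : v' ∈ VS F) :
    (e * v) * (e' * v') * (e * v)⁻¹ * (e' * v')⁻¹ = e * e' * e⁻¹ * e'⁻¹ := by
  have h1 := E_comm_V he hv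
  have h2 := E_comm_V he' hv
  have h3 := E_comm_V he hv'
  have h5 := V_comm hv hv'
  calc (e * v) * (e' * v') * (e * v)⁻¹ * (e' * v')⁻¹
      = e * (v * e') * v' * v⁻¹ * e⁻¹ * v'⁻¹ * e'⁻¹ := by group
    _ = e * e' * (v * v') * v⁻¹ * e⁻¹ * v'⁻¹ * e'⁻¹ := by rw [← h2]; group
    _ = e * e' * v' * e⁻¹ * v'⁻¹ * e'⁻¹ := by rw [h5]; group
    _ = e * e' * e⁻¹ * (e * v') * e⁻¹ * v'⁻¹ * e'⁻¹ := by group
    _ = e * e' * e⁻¹ * e'⁻¹ := by rw [h3]; group

theorem sp_Q : Sp (ZT chevF4 F) (VS F) (QT chevF4 F) := by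
  rw [← QS_eq]
  refine ⟨Z_le_V, ?_, ?_, ?_, ?_⟩
  · intro v hv
    exact ⟨1, one_mem _, v, hv, (one_mul _).symm⟩
  · rintro w hw _ ⟨e, he, v, hv, rfl⟩
    rw [mul_assoc, V_comm hv hw, ← mul_assoc, E_comm_V he hw, mul_assoc]
  · rintro _ ⟨e, he, v, hv, rfl⟩ _ ⟨e', he', v', hv', rfl⟩
    rw [comm_QS he hv he' hv']
    exact hE.sp.comm_mem e he e' he'
  · rintro _ ⟨e, he, v, hv, rfl⟩ hx z hz
    have heZ : e ∉ ZT chevF4 F := fun h => hx (mul_mem (Z_le_V h) hv)
    obtain ⟨e', he', h1⟩ := hE.sp.special e he heZ z hz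
    refine ⟨e', ⟨e', he', 1, one_mem _, (mul_one _).symm⟩, ?_⟩
    have h2 := comm_QS he hv he' (one_mem (VS F))
    rw [mul_one] at h2
    rw [h2, h1]

theorem card_QS : Nat.card (QT chevF4 F) = Fintype.card F ^ 7 * (Fintype.card F ^ 4) ^ 2 := by
  have hfin : Finite (GL chevF4.Idx F) := inferInstance
  have hfinG : Finite ↥(chevF4.group F) := inferInstance
  rw [← QS_eq]
  have h1 : Nat.card (QS F) = Nat.card ((Fin 8 → F) × VS F) := by
    symm
    refine Nat.card_congr (Equiv.ofBijective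
      (fun p : (Fin 8 → F) × VS F => (⟨(DD F).X p.1 * p.2, (DD F).X p.1, (DD F).X_mem_Qg _, p.2, p.2.2, rfl⟩ : QS F))
      ⟨?_, ?_⟩)
    · rintro ⟨v, x⟩ ⟨v', x'⟩ h
      have h2 : (DD F).X v * x = (DD F).X v' * x' := congrArg Subtype.val h
      have h3 : ((DD F).X v')⁻¹ * (DD F).X v = x' * (x : ↥(chevF4.group F))⁻¹ := by
        calc ((DD F).X v')⁻¹ * (DD F).X v = ((DD F).X v')⁻¹ * ((DD F).X v * x) * (x : ↥(chevF4.group F))⁻¹ := by group
          _ = ((DD F).X v')⁻¹ * ((DD F).X v' * x') * (x : ↥(chevF4.group F))⁻¹ := by rw [h2]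
          _ = _ := by group
      have h4 : ((DD F).X v')⁻¹ * (DD F).X v ∈ ZT chevF4 F := by
        by_contra hcon
        have h5 : ((DD F).X v')⁻¹ * (DD F).X v ∈ EL F := mul_mem (inv_mem ((DD F).X_mem_Qg _)) ((DD F).X_mem_Qg _)
        have h6 : ((DD F).X v')⁻¹ * (DD F).X v ∈ VS F := by rw [h3]; exact mul_mem x'.2 (inv_mem x.2)
        obtain ⟨e', he', h7⟩ := hE.sp.special _ h5 hcon ((DD F).z 1) (by rw [← Zg_eq]; exact ⟨1, rfl⟩)
        have h8 := E_comm_V he' h6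
        rw [← h8] at h7
        have h9 : (DD F).z 1 = 1 := by rw [← h7]; group
        exact one_ne_zero ((DD F).z_inj _ h9)
      rw [← Zg_eq] at h4
      obtain ⟨a, ha⟩ := h4
      have h5 : (DD F).X v * (DD F).z 0 = (DD F).X v' * (DD F).z a := by
        rw [(DD F).z_zero, mul_one, ha]; group
      obtain ⟨rfl, h6⟩ := (DD F).eq_of_mul_eq h5
      exact Prod.ext rfl (Subtype.ext (mul_left_cancel h2))
    · rintro ⟨_, e, ⟨w, a, rfl⟩, v, hv, rfl⟩
      refine ⟨(w, ⟨(DD F).z a * v, mul_mem (Z_le_V ?_) hv⟩), ?_⟩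
      · rw [← Zg_eq]; exact ⟨a, rfl⟩
      · apply Subtype.ext
        exact (mul_assoc _ _ _).symm
  rw [h1, Nat.card_prod, card_VS, Nat.card_fun, Nat.card_eq_fintype_card (α := Fin 8), Fintype.card_fin,
    Nat.card_eq_fintype_card]
  ring

/-! ### The end -/

theorem norm_Q {g : ↥(chevF4.group F)} (hg : g ∈ Subgroup.normalizer (ZT chevF4 F : Set ↥(chevF4.group F)))
    {x : ↥(chevF4.group F)} (hx : x ∈ QT chevF4 F) : g * x * g⁻¹ ∈ QT chevF4 F := by
  refine H86.Par.P_conj_Q hF4 ?_ _ hx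
  refine H86.Par.mem_P_iff hF4 g.2 (fun t => ?_) (fun t => ?_)
  · obtain ⟨t', ht'⟩ := (mem_ZT hF4).1 ((Subgroup.mem_normalizer_iff.1 hg _).1 (xe_mem_XX hF4 (chevF4.nroots - 1) t))
    exact ⟨t', congrArg Subtype.val ht'⟩
  · have hg' := inv_mem hg
    obtain ⟨t', ht'⟩ := (mem_ZT hF4).1 ((Subgroup.mem_normalizer_iff.1 hg' _).1 (xe_mem_XX hF4 (chevF4.nroots - 1) t))
    rw [inv_inv] at ht'
    exact ⟨t', congrArg Subtype.val ht'⟩

theorem norm_V {g : ↥(chevF4.group F)} (hg : g ∈ Subgroup.normalizer (ZT chevF4 F : Set ↥(chevF4.group F)))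
    {x : ↥(chevF4.group F)} (hx : x ∈ VS F) : g * x * g⁻¹ ∈ VS F := by
  by_contra hcon
  have h1 := norm_Q hg (sp_Q.le' hx)
  obtain ⟨y, hy, h2⟩ := sp_Q.special _ h1 hcon (xr hF4 (chevF4.nroots - 1) (1 : F)) ((mem_ZT hF4).2 ⟨1, rfl⟩)
  have h3 := norm_Q (inv_mem hg) hy
  rw [inv_inv] at h3
  have h4 := sp_Q.central x hx _ h3
  have h5 : g * x * g⁻¹ * y = y * (g * x * g⁻¹) := by
    calc g * x * g⁻¹ * y = g * (x * (g⁻¹ * y * g)) * g⁻¹ := by group
      _ = g * ((g⁻¹ * y * g) * x) * g⁻¹ := by rw [h4]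
      _ = _ := by group
  rw [h5] at h2
  have h6 : xr hF4 (chevF4.nroots - 1) (1 : F) = 1 := by rw [← h2]; group
  exact one_ne_zero (H934.HeisChev.xe_eq_one hF4 (by decide) h6)

theorem index_N : (Subgroup.normalizer (ZT chevF4 F : Set ↥(chevF4.group F))).index ≤ 3 * Fintype.card F ^ 15 := by
  have hfin : Finite (GL chevF4.Idx F) := inferInstance
  have hfinG : Finite ↥(chevF4.group F) := inferInstance
  have h1 := index_normalizer_le (F := F) hF4 hO
  have h2 : (OF4.map fun r => Nat.card F ^ (dlF4.getD r 0)) = LF4.map fun x => Nat.card F ^ x := by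
    rw [← LF4_eq, List.map_map]; rfl
  rw [h2] at h1
  have h3 := h1.trans ((sum_le Finite.one_lt_card LF4 15 LF4_le).trans (Nat.mul_le_mul_right _ carryF4))
  rwa [Nat.card_eq_fintype_card] at h3

/-- all involutions are conjugate into `Q` -/
theorem exists_Q {t : ↥(chevF4.group F)} (ho : orderOf t = 2) : ∃ g : ↥(chevF4.group F), g * t * g⁻¹ ∈ QT chevF4 F := by
  obtain ⟨-, h2, -⟩ := Cfsg.Agent.S2174.result (F := F)
  obtain ⟨y, hy, hyl, h, hh, he⟩ := h2 t t.2 (by rw [Subgroup.orderOf_coe]; exact ho)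
  refine ⟨⟨h, hh⟩, ?_⟩
  have hx : ∀ s < chevF4.nroots, 1 ≤ car chevF4 (chevF4.nroots - 1) s → ∀ a : F,
      xG hF4 s a ∈ H86.Graded.Q chevF4 F (chevF4.nroots - 1) := fun s hs h1 a => H86.Graded.xG_mem_Q hF4 hs h1 a
  suffices hyQ : y ∈ H86.Graded.Q chevF4 F (chevF4.nroots - 1) by
    rw [← he] at hyQ
    exact hyQ
  simp only [List.mem_cons, List.not_mem_nil, or_false] at hyl
  rcases hyl with hyl | hyl | hyl | hyl
  · have : y = xG hF4 47 1 := Units.ext (by rw [hyl, coe_xG])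
    rw [this]
    exact hx 47 (by decide) (by decide +kernel) 1
  · have : y = xG hF4 44 1 := Units.ext (by rw [hyl, coe_xG])
    rw [this]
    exact hx 44 (by decide) (by decide +kernel) 1
  · have : y = xG hF4 47 1 * xG hF4 44 1 := Units.ext (by rw [hyl, Units.val_mul, coe_xG, coe_xG])
    rw [this]
    exact mul_mem (hx 47 (by decide) (by decide +kernel) 1) (hx 44 (by decide) (by decide +kernel) 1)
  · have : y = xG hF4 39 1 * xG hF4 45 1 := Units.ext (by rw [hyl, Units.val_mul, coe_xG, coe_xG])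
    rw [this]
    exact mul_mem (hx 39 (by decide) (by decide +kernel) 1) (hx 45 (by decide) (by decide +kernel) 1)

theorem card_two_pow (j : ℕ) : ∃ i, Fintype.card F ^ j = 2 ^ i := by
  obtain ⟨f, -, hf⟩ := FiniteField.card F 2
  exact ⟨f * j, by rw [hf, pow_mul]⟩

theorem main {A : Subgroup ↥(chevF4.group F)} (hA : IFK.Fix A) {t : ↥(chevF4.group F)} (ht : t ∈ A)
    (ho : orderOf t = 2) : A = ⊤ := by
  have hfin : Finite (GL chevF4.Idx F) := inferInstance
  have hfinG : Finite ↥(chevF4.group F) := inferInstance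
  by_contra hne
  obtain ⟨g, hg⟩ := exists_Q ho
  set A' := MulAut.conj g • A with hA'
  have hFix : IFK.Fix A' := hA.conj g
  have ht' : g * t * g⁻¹ ∈ A' := conj_mem_conj ht
  have ho' : orderOf (g * t * g⁻¹) = 2 := by
    rw [← ho]
    exact orderOf_injective (MulAut.conj g).toMonoidHom (MulAut.conj g).injective t
  have hZ := noZ hA hne g
  rw [← hA'] at hZ
  set q := Fintype.card F with hq
  have hq2 : 2 ≤ q := Fintype.one_lt_card
  have hcZ := card_ZT hF4 (F := F)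
  have hcV := card_VS (F := F)
  have hcQ := card_QS (F := F)
  have hZA : ¬ ZT chevF4 F ≤ A' := by
    intro h
    have h1 : xr hF4 (chevF4.nroots - 1) (1 : F) ∈ (A' ⊓ ZT chevF4 F : Subgroup ↥(chevF4.group F)) :=
      ⟨h ((mem_ZT hF4).2 ⟨1, rfl⟩), (mem_ZT hF4).2 ⟨1, rfl⟩⟩
    rw [hZ, Subgroup.mem_bot] at h1
    exact one_ne_zero (H934.HeisChev.xe_eq_one hF4 (by decide) h1)
  -- `A' ∩ V = 1`
  have hV : (A' ⊓ VS F : Subgroup ↥(chevF4.group F)) = ⊥ := by
    by_contra hcon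
    obtain ⟨i, hi⟩ := card_two_pow (F := F) 7
    obtain ⟨s, ⟨hsA, hsV⟩, hs2⟩ := exists_two (B := A' ⊓ VS F) (Q := VS F) inf_le_right
      (by rw [hcV]; exact hi) hcon
    have h1 : Nat.card (A' ⊓ VS F : Subgroup ↥(chevF4.group F)) ≤ q ^ 6 := by
      have h2 := card_inf_mul_le (Z_le_V (F := F)) hZ
      rw [hcZ, hcV] at h2
      have h3 : Nat.card (A' ⊓ VS F : Subgroup ↥(chevF4.group F)) * q ≤ q ^ 6 * q := by
        rw [← pow_succ]; exact h2
      exact Nat.le_of_mul_le_mul_right h3 (by omega)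
    have h2 := s2c hFix sp_Q (n := q ^ 4) hcV hcQ h1 hZA hsA hsV hs2
    have h3 := index_centralizer_le (Q := VS F) (fun m hm x hx => norm_V hm hx) hsV
    rw [hcV] at h3
    have h4 := h3.trans (Nat.mul_le_mul_right _ (index_N (F := F)))
    have h5 : (q ^ 7 * q ^ 4) ^ 5 < (q ^ 6) ^ 5 * (3 * q ^ 15 * q ^ 7) := lt_of_lt_of_le h2 (Nat.mul_le_mul_left _ h4)
    have h6 : q ^ 52 * q ^ 3 < q ^ 52 * 3 := by
      calc q ^ 52 * q ^ 3 = (q ^ 7 * q ^ 4) ^ 5 := by ring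
        _ < _ := h5
        _ = _ := by ring
    have h7 : q ^ 3 < 3 := lt_of_mul_lt_mul_left h6 (Nat.zero_le _)
    have h8 : 2 ^ 3 ≤ q ^ 3 := Nat.pow_le_pow_left hq2 3
    omega
  -- `A' ∩ Q = 1`
  have h2 := s2 hFix sp_Q (n := q ^ 4) (w := 1) hcZ hcV hcQ (by rw [hV, Subgroup.card_bot]) hZA ht' hg ho'
  have h3 := index_centralizer_le (Q := QT chevF4 F) (fun m hm x hx => norm_Q hm hx) hg
  rw [hcQ] at h3
  have h4 := h3.trans (Nat.mul_le_mul_right _ (index_N (F := F)))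
  have h5 : (q ^ 7 * q ^ 4) ^ 5 < (q * 1) ^ 5 * (3 * q ^ 15 * (q ^ 7 * (q ^ 4) ^ 2)) :=
    lt_of_lt_of_le h2 (Nat.mul_le_mul_left _ h4)
  have h6 : q ^ 35 * q ^ 20 < q ^ 35 * 3 := by
    calc q ^ 35 * q ^ 20 = (q ^ 7 * q ^ 4) ^ 5 := by ring
      _ < _ := h5
      _ = _ := by ring
  have h7 : q ^ 20 < 3 := lt_of_mul_lt_mul_left h6 (Nat.zero_le _)
  have h8 : 2 ^ 20 ≤ q ^ 20 := Nat.pow_le_pow_left hq2 20
  omega

end Cfsg.Agent.H255.IFF

namespace Cfsg.Agent.H255.IFF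

open Cfsg.Lie Cfsg.Agent.H934.HeisF4G2 Cfsg.Agent.H934.HeisF4Even Cfsg.Agent.H209.Fxy

theorem exists_ne (F : Type) [Field F] [CharP F 2] : ∃ a b : ↥(chevF4.group F), a * b ≠ b * a := by
  have hv : (Pi.single (0 : Fin 8) (1 : F) : Fin 8 → F) ≠ 0 := by
    intro h
    have := congrFun h 0
    rw [Pi.single_eq_same] at this
    exact one_ne_zero this
  obtain ⟨w, hw⟩ := (DD F).special _ hv 1
  refine ⟨(DD F).X (Pi.single (0 : Fin 8) (1 : F)), (DD F).X w, fun h => ?_⟩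
  have h1 := (DD F).comm (Pi.single (0 : Fin 8) (1 : F)) w
  rw [h, hw] at h1
  have h2 : (DD F).z 1 = 1 := mul_eq_left.1 h1.symm
  exact one_ne_zero ((DD F).z_inj _ h2)

/-- **The cell `f4_even`.** -/
theorem f4_even (F : Type) [Field F] [Fintype F] (h : Even (Fintype.card F)) (hs : IsSimpleGroup ↥(chevF4.group F)) :
    KillE ↥(chevF4.group F) := by
  have := IFC.charP_of_even F h
  have hfin : Finite (GL chevF4.Idx F) := inferInstance
  have hfinG : Finite ↥(chevF4.group F) := inferInstance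
  exact IFC.killE_of (exists_ne F) fun A hA t ht ho => main hA ht ho

end Cfsg.Agent.H255.IFF
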